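import Mathlib.RingTheory.Flat.Basic
import Mathlib.RingTheory.FiniteType
import Mathlib.RingTheory.TensorProduct.Basic
import Mathlib.RingTheory.TensorProduct.Maps
import Mathlib.RingTheory.Noetherian.Basic
import Mathlib.LinearAlgebra.TensorProduct.Pi
import Mathlib.LinearAlgebra.TensorProduct.Tower

/-!
# Iterated commutators of `R`-linear maps between `P`-modules, and flat base change

`Wc FM c m` is the left `P`-submodule of `P ⊗[R] M` spanned by the `c`-fold commutators of `1 ⊗ z`, `z ∈ FM m`.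
-/

set_option autoImplicit false
set_option linter.dupNamespace false
set_option linter.unusedSectionVars false

namespace Groth.Agent.ResProp.EF.K590

open TensorProduct

universe u v w

section Ops

variable {R : Type*} {P : Type*} {M : Type*} {N : Type*} [CommRing R] [CommRing P] [Algebra R P]
variable [AddCommGroup M] [Module R M] [Module P M] [IsScalarTower R P M]
variable [AddCommGroup N] [Module R N] [Module P N] [IsScalarTower R P N]

/-- the commutator `L ↦ x L - L x` -/
def ad (x : P) : (M →ₗ[R] N) →ₗ[P] (M →ₗ[R] N) where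
  toFun L := x • L - L.comp (Algebra.lsmul R R M x)
  map_add' L L' := by ext z; simp; abel
  map_smul' p L := by
    ext z
    simp [smul_sub, smul_smul, mul_comm]

theorem ad_apply (x : P) (L : M →ₗ[R] N) (z : M) : ad x L z = x • L z - L (x • z) := rfl

/-- iterated commutators -/
def adL : List P → (M →ₗ[R] N) →ₗ[P] (M →ₗ[R] N)
  | [] => LinearMap.id
  | x :: xs => (adL xs).comp (ad x)

theorem adL_nil (L : M →ₗ[R] N) : adL ([] : List P) L = L := rfl
theorem adL_cons (x : P) (xs : List P) (L : M →ₗ[R] N) : adL (x :: xs) L = adL xs (ad x L) := rfl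

/-- `P`-linear maps out of `P ⊗ M` -/
noncomputable def hat (L : M →ₗ[R] N) : P ⊗[R] M →ₗ[P] N := LinearMap.liftBaseChange P L

theorem hat_tmul (L : M →ₗ[R] N) (p : P) (z : M) : hat L (p ⊗ₜ[R] z) = p • L z := by
  simp [hat]

/-- `δ x = x ⊗ 1 - 1 ⊗ x` on `P ⊗ M` -/
noncomputable def del (x : P) : P ⊗[R] M →ₗ[P] P ⊗[R] M :=
  x • LinearMap.id - LinearMap.baseChange P (Algebra.lsmul R R M x)

theorem del_tmul (x p : P) (z : M) : del x (p ⊗ₜ[R] z) = (x * p) ⊗ₜ[R] z - p ⊗ₜ[R] (x • z) := by
  simp [del, TensorProduct.smul_tmul']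

theorem hat_ad (x : P) (L : M →ₗ[R] N) : hat (ad x L) = (hat L).comp (del x) := by
  apply TensorProduct.AlgebraTensorModule.ext
  intro p z
  simp only [LinearMap.comp_apply, hat_tmul, del_tmul, map_sub, ad_apply, smul_sub, mul_smul]
  rw [smul_comm]

/-- the span of the `c`-fold commutators -/
noncomputable def Wc (R : Type*) [CommRing R] [Algebra R P] [Module R M] [IsScalarTower R P M]
    (U : Submodule P M) : ℕ → Submodule P (P ⊗[R] M)
  | 0 => Submodule.span P ((fun z : M => (1 : P) ⊗ₜ[R] z) '' U)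
  | c + 1 => ⨆ x : P, (Wc R U c).map (del x)

theorem Wc_succ (U : Submodule P M) (c : ℕ) : Wc R U (c + 1) = ⨆ x : P, (Wc R U c).map (del x) := rfl

theorem Wc_mono {U U' : Submodule P M} (h : U ≤ U') (c : ℕ) : Wc R U c ≤ Wc R U' c := by
  induction c with
  | zero => exact Submodule.span_mono (Set.image_mono h)
  | succ c ih => exact iSup_mono fun x => Submodule.map_mono ih

/-- the commutator conditions in terms of `P ⊗ M` -/
theorem adL_mem_iff (U : Submodule P M) (V : Submodule P N) (c : ℕ) (L : M →ₗ[R] N) :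
    (∀ xs : List P, xs.length = c → ∀ z ∈ U, adL xs L z ∈ V) ↔ Wc R U c ≤ V.comap (hat L) := by
  induction c generalizing L with
  | zero =>
    constructor
    · intro h
      refine Submodule.span_le.2 ?_
      rintro _ ⟨z, hz, rfl⟩
      simpa [hat_tmul, adL_nil] using h [] rfl z hz
    · intro h xs hxs z hz
      obtain rfl : xs = [] := List.length_eq_zero_iff.1 hxs
      have := h (Submodule.subset_span ⟨z, hz, rfl⟩)
      simpa [hat_tmul, adL_nil] using this
  | succ c ih =>
    rw [Wc_succ, iSup_le_iff]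
    constructor
    · intro h x
      have := (ih (ad x L)).1 (fun xs hxs z hz => h (x :: xs) (by simp [hxs]) z hz)
      rw [hat_ad] at this
      exact Submodule.map_le_iff_le_comap.2 this
    · intro h xs hxs z hz
      obtain ⟨x, xs', rfl⟩ : ∃ x xs', xs = x :: xs' := by
        cases xs with
        | nil => simp at hxs
        | cons x xs' => exact ⟨x, xs', rfl⟩
      have h2 : Wc R U c ≤ V.comap (hat (ad x L)) := by
        rw [hat_ad, Submodule.comap_comp]
        exact Submodule.map_le_iff_le_comap.1 (h x)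
      exact (ih (ad x L)).2 h2 xs' (by simpa using hxs) z hz

/-! ### finiteness -/

/-- `1 ⊗ y` -/
noncomputable def rmul (y : P) : P ⊗[R] M →ₗ[P] P ⊗[R] M := LinearMap.baseChange P (Algebra.lsmul R R M y)

theorem del_eq (x : P) : (del x : P ⊗[R] M →ₗ[P] P ⊗[R] M) = x • LinearMap.id - rmul x := rfl

theorem Wc_zero_top : Wc R (⊤ : Submodule P M) 0 = ⊤ := by
  refine eq_top_iff.2 fun t _ => ?_
  induction t with
  | zero => exact zero_mem _
  | add a b ha hb => exact add_mem (ha trivial) (hb trivial)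
  | tmul p z =>
    have : p ⊗ₜ[R] z = p • ((1 : P) ⊗ₜ[R] z) := by simp [TensorProduct.smul_tmul']
    rw [this]
    exact Submodule.smul_mem _ _ (Submodule.subset_span ⟨z, trivial, rfl⟩)

theorem Wc_top_anti (c : ℕ) : Wc R (⊤ : Submodule P M) (c + 1) ≤ Wc R (⊤ : Submodule P M) c := by
  induction c with
  | zero => rw [Wc_zero_top]; exact le_top
  | succ c ih =>
    rw [Wc_succ (c := c + 1), Wc_succ (c := c)]
    exact iSup_mono fun x => Submodule.map_mono ih

theorem Wc_top_anti' {c c' : ℕ} (h : c ≤ c') : Wc R (⊤ : Submodule P M) c' ≤ Wc R (⊤ : Submodule P M) c := by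
  induction h with
  | refl => exact le_rfl
  | step _ ih => exact (Wc_top_anti _).trans ih

theorem rmul_mem {c : ℕ} {t : P ⊗[R] M} (ht : t ∈ Wc R (⊤ : Submodule P M) c) (y : P) :
    rmul y t ∈ Wc R (⊤ : Submodule P M) c := by
  have h1 : del y t ∈ Wc R (⊤ : Submodule P M) (c + 1) :=
    (le_iSup (fun x : P => (Wc R (⊤ : Submodule P M) c).map (del x)) y) ⟨t, ht, rfl⟩
  have h2 : rmul y t = y • t - del y t := by simp [del_eq]
  rw [h2]
  exact sub_mem (Submodule.smul_mem _ _ ht) (Wc_top_anti c h1)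

theorem del_mul (x y : P) (t : P ⊗[R] M) : del (x * y) t = x • del y t + del x (rmul y t) := by
  induction t with
  | zero => simp
  | add a b ha hb => simp only [map_add, ha, hb, smul_add]; abel
  | tmul p z =>
    simp only [rmul, LinearMap.baseChange_tmul, Algebra.lsmul_coe, del_tmul, smul_sub, TensorProduct.smul_tmul', smul_eq_mul]
    rw [mul_assoc, mul_smul]
    abel

theorem del_add (x y : P) (t : P ⊗[R] M) : del (x + y) t = del x t + del y t := by
  induction t with
  | zero => simp
  | add a b ha hb => simp only [map_add, ha, hb]; abel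
  | tmul p z => simp only [del_tmul, add_mul, add_smul, TensorProduct.add_tmul, TensorProduct.tmul_add]; abel

theorem del_algebraMap (r : R) (t : P ⊗[R] M) : del (algebraMap R P r) t = 0 := by
  induction t with
  | zero => simp
  | add a b ha hb => simp only [map_add, ha, hb, add_zero]
  | tmul p z =>
    rw [del_tmul, ← Algebra.smul_def, algebraMap_smul, ← TensorProduct.smul_tmul, sub_self]

/-- finitely many algebra generators are enough -/
theorem Wc_succ_le_of_adjoin {ι : Type*} (g : ι → P) (hg : Algebra.adjoin R (Set.range g) = ⊤) (c : ℕ) :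
    Wc R (⊤ : Submodule P M) (c + 1) ≤ ⨆ i, (Wc R (⊤ : Submodule P M) c).map (del (g i)) := by
  rw [Wc_succ]
  refine iSup_le fun x => ?_
  have hx : x ∈ Algebra.adjoin R (Set.range g) := hg ▸ trivial
  induction hx using Algebra.adjoin_induction with
  | mem x hx =>
    obtain ⟨i, rfl⟩ := hx
    exact le_iSup (fun i => (Wc R (⊤ : Submodule P M) c).map (del (g i))) i
  | algebraMap r =>
    rintro _ ⟨t, _, rfl⟩
    rw [del_algebraMap]
    exact zero_mem _
  | add x y _ _ hx hy =>
    rintro _ ⟨t, ht, rfl⟩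
    rw [del_add]
    exact add_mem (hx ⟨t, ht, rfl⟩) (hy ⟨t, ht, rfl⟩)
  | mul x y _ _ hx hy =>
    rintro _ ⟨t, ht, rfl⟩
    rw [del_mul]
    exact add_mem (Submodule.smul_mem _ _ (hy ⟨t, ht, rfl⟩)) (hx ⟨_, rmul_mem ht y, rfl⟩)

theorem exists_fg_le [hP : Algebra.FiniteType R P] [hM : Module.Finite P M] (c : ℕ) :
    ∃ Y : Submodule P (P ⊗[R] M), Y.FG ∧ Wc R (⊤ : Submodule P M) c ≤ Y ⊔ Wc R (⊤ : Submodule P M) (c + 1) := by
  obtain ⟨s, hs⟩ := hP.out
  have hg : Algebra.adjoin R (Set.range ((↑) : s → P)) = ⊤ := by simpa using hs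
  induction c with
  | zero =>
    obtain ⟨m, hm⟩ := hM.fg_top
    refine ⟨Submodule.span P ((fun z : M => (1 : P) ⊗ₜ[R] z) '' (m : Set M)), ?_, ?_⟩
    · exact Submodule.fg_span ((Finset.finite_toSet m).image _)
    · rw [Wc]
      refine Submodule.span_le.2 ?_
      rintro _ ⟨z, -, rfl⟩
      have hz : z ∈ Submodule.span P (m : Set M) := hm ▸ trivial
      simp only [SetLike.mem_coe]
      induction hz using Submodule.span_induction with
      | mem z hz => exact le_sup_left (α := Submodule P (P ⊗[R] M)) (Submodule.subset_span ⟨z, hz, rfl⟩)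
      | zero => simp
      | add a b _ _ ha hb => simpa [TensorProduct.tmul_add] using add_mem ha hb
      | smul p z _ hz =>
        have h1 : (1 : P) ⊗ₜ[R] (p • z) = p • ((1 : P) ⊗ₜ[R] z) - del p ((1 : P) ⊗ₜ[R] z) := by
          rw [del_tmul, TensorProduct.smul_tmul', smul_eq_mul]
          abel
        rw [h1]
        refine sub_mem (Submodule.smul_mem _ _ hz) (le_sup_right (α := Submodule P (P ⊗[R] M)) ?_)
        exact (le_iSup (fun x : P => (Wc R (⊤ : Submodule P M) 0).map (del x)) p)
          ⟨_, Submodule.subset_span ⟨z, trivial, rfl⟩, rfl⟩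
  | succ c ih =>
    obtain ⟨Y, hY, hle⟩ := ih
    refine ⟨⨆ i : s, Y.map (del (i : P)), ?_, ?_⟩
    · exact Submodule.fg_iSup _ fun i => hY.map _
    · refine (Wc_succ_le_of_adjoin _ hg c).trans (iSup_le fun i => ?_)
      refine (Submodule.map_mono hle).trans ?_
      rw [Submodule.map_sup]
      refine sup_le_sup (le_iSup (fun i : s => Y.map (del (i : P))) i) ?_
      exact le_iSup (fun x : P => (Wc R (⊤ : Submodule P M) (c + 1)).map (del x)) (i : P)

theorem exists_fg_sup [Algebra.FiniteType R P] [Module.Finite P M] (c : ℕ) :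
    ∃ Y : Submodule P (P ⊗[R] M), Y.FG ∧ Y ⊔ Wc R (⊤ : Submodule P M) c = ⊤ := by
  induction c with
  | zero => exact ⟨⊥, Submodule.fg_bot, by rw [Wc_zero_top]; simp⟩
  | succ c ih =>
    obtain ⟨Y, hY, h⟩ := ih
    obtain ⟨Y', hY', h'⟩ := exists_fg_le (R := R) (P := P) (M := M) c
    refine ⟨Y ⊔ Y', hY.sup hY', ?_⟩
    rw [eq_top_iff, ← h, sup_assoc]
    exact sup_le_sup le_rfl h'

/-- the module of operators of order `< c` is `Hom_P` of a finite module -/
theorem finite_quot [Algebra.FiniteType R P] [Module.Finite P M] (c : ℕ) :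
    Module.Finite P ((P ⊗[R] M) ⧸ Wc R (⊤ : Submodule P M) c) := by
  obtain ⟨Y, hY, h⟩ := exists_fg_sup (R := R) (P := P) (M := M) c
  refine ⟨?_⟩
  have h1 : (⊤ : Submodule P ((P ⊗[R] M) ⧸ Wc R (⊤ : Submodule P M) c)) = Y.map (Submodule.mkQ _) := by
    have h2 : Submodule.map (Submodule.mkQ (Wc R (⊤ : Submodule P M) c)) ⊤ = ⊤ := by
      rw [Submodule.map_top, Submodule.range_mkQ]
    rw [← h2, ← h, Submodule.map_sup]
    have h3 : Submodule.map (Submodule.mkQ (Wc R (⊤ : Submodule P M) c)) (Wc R (⊤ : Submodule P M) c) = ⊥ := by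
      rw [Submodule.mkQ_map_self]
    rw [h3, sup_bot_eq]
  rw [h1]
  exact hY.map _

end Ops

end Groth.Agent.ResProp.EF.K590
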