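import Mathlib.RingTheory.Flat.Basic
import Mathlib.RingTheory.TensorProduct.Basic
import Mathlib.RingTheory.Noetherian.Basic
import Mathlib.RingTheory.Finiteness.Cardinality
import Mathlib.LinearAlgebra.TensorProduct.Pi
import Mathlib.LinearAlgebra.TensorProduct.Tower
import Mathlib.LinearAlgebra.TensorProduct.RightExactness

/-!
# Submodules of `Hom_P(X, N)` cut out by finitely many conditions commute with flat base change of `N`
-/

set_option autoImplicit false
set_option linter.dupNamespace false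
set_option linter.unusedSectionVars false
set_option linter.unusedVariables false

namespace Groth.Agent.ResProp.EF.K590

open TensorProduct

section Cond

variable {R : Type*} [CommRing R] {F : Type*} [AddCommGroup F] [Module R F]
variable {B N : Type*} [AddCommGroup B] [Module R B] [AddCommGroup N] [Module R N]

theorem piRightHom_lTensor {J : Type*} {Nj : J → Type*} [∀ j, AddCommGroup (Nj j)] [∀ j, Module R (Nj j)]
    (Θ : ∀ j, B →ₗ[R] Nj j) (t : F ⊗[R] B) (j : J) :
    piRightHom R R F Nj ((LinearMap.pi Θ).lTensor F t) j = (Θ j).lTensor F t := by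
  induction t with
  | zero => simp
  | add a b ha hb => simp only [map_add, Pi.add_apply, ha, hb]
  | tmul f b => simp

/-- finitely many linear conditions commute with `F ⊗ -`, `F` flat -/
theorem cond_flat [Module.Flat R F] {J : Type*} [Finite J] (lam : J → B →ₗ[R] N) (V : J → Submodule R N) (t : F ⊗[R] B)
    (h : ∀ j, (lam j).lTensor F t ∈ LinearMap.range ((V j).subtype.lTensor F)) :
    t ∈ LinearMap.range ((⨅ j, (V j).comap (lam j)).subtype.lTensor F) := by
  classical
  cases nonempty_fintype J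
  let Θ : B →ₗ[R] (∀ j, N ⧸ V j) := LinearMap.pi fun j => (V j).mkQ ∘ₗ lam j
  have hΘ : LinearMap.ker Θ = ⨅ j, (V j).comap (lam j) := by
    ext b
    simp only [Θ, LinearMap.mem_ker, Submodule.mem_iInf, Submodule.mem_comap]
    constructor
    · intro hb j
      have := congrFun hb j
      simpa using this
    · intro hb
      funext j
      simpa using hb j
  have hex := Module.Flat.lTensor_exact F (LinearMap.exact_subtype_ker_map Θ)
  rw [hΘ] at hex
  refine (hex t).1 ?_
  apply (TensorProduct.piRight R R F (fun j => N ⧸ V j)).injective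
  rw [map_zero, TensorProduct.piRight_apply]
  funext j
  rw [piRightHom_lTensor]
  obtain ⟨y, hy⟩ := h j
  rw [LinearMap.lTensor_comp, LinearMap.comp_apply, ← hy, ← LinearMap.comp_apply, ← LinearMap.lTensor_comp]
  have : (V j).mkQ ∘ₗ (V j).subtype = 0 := by ext x; simp
  rw [this]
  simp

end Cond

section HomP

variable {R : Type*} {P : Type*} {X : Type*} {N : Type*} [CommRing R] [CommRing P] [Algebra R P]
variable [AddCommGroup X] [Module P X]
variable [AddCommGroup N] [Module R N] [Module P N] [IsScalarTower R P N]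

/-- `P`-linear maps `X → N` killing `W`, mapping `U j` to `V j` and intertwining `φ i`, `ψ i` -/
def HC (R : Type*) [CommRing R] [Algebra R P] [Module R N] [IsScalarTower R P N] (W : Submodule P X)
    {J : Type*} (U : J → Submodule P X) (V : J → Submodule P N) {I : Type*} (φ : I → X →ₗ[P] X)
    (ψ : I → N →ₗ[P] N) : Submodule R (X →ₗ[P] N) where
  carrier := {g | W ≤ LinearMap.ker g ∧ (∀ j, U j ≤ (V j).comap g) ∧ ∀ i, g ∘ₗ φ i = ψ i ∘ₗ g}
  zero_mem' := ⟨by simp, fun j x _ => by simp, fun i => by simp⟩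
  add_mem' := by
    rintro g g' ⟨h1, h2, h3⟩ ⟨h1', h2', h3'⟩
    refine ⟨fun x hx => ?_, fun j x hx => ?_, fun i => ?_⟩
    · have e1 := h1 hx
      have e2 := h1' hx
      simp only [LinearMap.mem_ker] at e1 e2 ⊢
      simp [e1, e2]
    · exact add_mem (show g x ∈ V j from h2 j hx) (show g' x ∈ V j from h2' j hx)
    · rw [LinearMap.add_comp, LinearMap.comp_add, h3, h3']
  smul_mem' := by
    rintro r g ⟨h1, h2, h3⟩
    refine ⟨fun x hx => ?_, fun j x hx => ?_, fun i => ?_⟩
    · have e1 := h1 hx
      simp only [LinearMap.mem_ker] at e1 ⊢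
      simp [e1]
    · have := (V j).smul_mem (algebraMap R P r) (h2 j hx)
      rw [algebraMap_smul] at this
      exact this
    · ext x
      have := LinearMap.congr_fun (h3 i) x
      simp only [LinearMap.comp_apply, LinearMap.smul_apply] at this ⊢
      rw [this, ← algebraMap_smul P r, ← algebraMap_smul P r, map_smul]

variable {a : ℕ} (π : (Fin a → P) →ₗ[P] X)

/-- linear combinations -/
def lamv (R : Type*) [CommRing R] [Algebra R P] [Module R N] [IsScalarTower R P N] (v : Fin a → P) :
    (Fin a → N) →ₗ[R] N where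
  toFun t := ∑ s, v s • t s
  map_add' t t' := by simp [smul_add, Finset.sum_add_distrib]
  map_smul' r t := by
    simp only [Pi.smul_apply, RingHom.id_apply, Finset.smul_sum]
    exact Finset.sum_congr rfl fun s _ => smul_comm _ _ _

theorem lamv_apply (v : Fin a → P) (t : Fin a → N) : lamv (N := N) R v t = ∑ s, v s • t s := rfl

/-- evaluation at finitely many elements -/
def ev (R : Type*) [CommRing R] [Algebra R P] [Module R N] [IsScalarTower R P N] (q : Fin a → X) :
    (X →ₗ[P] N) →ₗ[R] (Fin a → N) where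
  toFun g s := g (q s)
  map_add' g g' := rfl
  map_smul' r g := rfl

theorem ev_apply (q : Fin a → X) (g : X →ₗ[P] N) (s : Fin a) : ev (N := N) R q g s = g (q s) := rfl

section gens

variable {W : Submodule P X} {π : (Fin a → P) →ₗ[P] X ⧸ W} {q : Fin a → X}

theorem mkQ_comb (hq : ∀ s, W.mkQ (q s) = π (Pi.single s 1)) (v : Fin a → P) : W.mkQ (∑ s, v s • q s) = π v := by
  rw [map_sum]
  simp only [map_smul, hq]
  conv_rhs => rw [← (Pi.basisFun P (Fin a)).sum_repr v]
  rw [map_sum]
  refine Finset.sum_congr rfl fun s _ => ?_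
  simp

theorem apply_eq (hq : ∀ s, W.mkQ (q s) = π (Pi.single s 1)) {g : X →ₗ[P] N} (hg : W ≤ LinearMap.ker g) {x : X}
    {v : Fin a → P} (hv : π v = W.mkQ x) : g x = lamv (N := N) R v (ev R q g) := by
  have h1 : W.mkQ (∑ s, v s • q s) = W.mkQ x := (mkQ_comb hq v).trans hv
  have h2 : (∑ s, v s • q s) - x ∈ W := by
    rw [← Submodule.ker_mkQ W, LinearMap.mem_ker, map_sub, h1, sub_self]
  have h3 : g ((∑ s, v s • q s) - x) = 0 := hg h2
  rw [map_sub, sub_eq_zero] at h3
  rw [← h3, lamv_apply, map_sum]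
  simp [ev_apply]

theorem eq_of_ev (hπ : Function.Surjective π) (hq : ∀ s, W.mkQ (q s) = π (Pi.single s 1)) {g g' : X →ₗ[P] N}
    (hg : W ≤ LinearMap.ker g) (hg' : W ≤ LinearMap.ker g') (h : ev R q g = ev R q g') : g = g' := by
  ext x
  obtain ⟨v, hv⟩ := hπ (W.mkQ x)
  rw [apply_eq (R := R) hq hg hv, apply_eq (R := R) hq hg' hv, h]

end gens

end HomP

section Main

variable {R : Type*} {P : Type*} {X : Type*} {N : Type*} {F : Type*} {N' : Type*} [CommRing R] [CommRing P] [Algebra R P]
variable [AddCommGroup X] [Module P X]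
variable [AddCommGroup N] [Module R N] [Module P N] [IsScalarTower R P N]
variable [AddCommGroup N'] [Module R N'] [Module P N'] [IsScalarTower R P N']
variable [AddCommGroup F] [Module R F]

/-- `F ⊗ Hom_P(X, N) → Hom_P(X, N')`, `N' = F ⊗ N` -/
noncomputable def kap (e : F ⊗[R] N ≃ₗ[R] N') (he : ∀ (p : P) (f : F) (n : N), p • e (f ⊗ₜ n) = e (f ⊗ₜ (p • n))) :
    F ⊗[R] (X →ₗ[P] N) →ₗ[R] (X →ₗ[P] N') :=
  TensorProduct.lift
    { toFun := fun f =>
        { toFun := fun g =>
            { toFun := fun x => e (f ⊗ₜ g x)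
              map_add' := fun x y => by rw [map_add, TensorProduct.tmul_add, map_add]
              map_smul' := fun p x => by rw [map_smul, ← he, RingHom.id_apply] }
          map_add' := fun g g' => by
            ext x
            simp [TensorProduct.tmul_add]
          map_smul' := fun r g => by
            ext x
            simp }
      map_add' := fun f f' => by
        ext g x
        simp [TensorProduct.add_tmul]
      map_smul' := fun r f => by
        ext g x
        show e ((r • f) ⊗ₜ[R] g x) = r • e (f ⊗ₜ[R] g x)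
        rw [← TensorProduct.smul_tmul', map_smul] }

theorem kap_tmul (e : F ⊗[R] N ≃ₗ[R] N') (he : ∀ (p : P) (f : F) (n : N), p • e (f ⊗ₜ n) = e (f ⊗ₜ (p • n)))
    (f : F) (g : X →ₗ[P] N) (x : X) : kap e he (f ⊗ₜ g) x = e (f ⊗ₜ g x) := rfl

/-- the transport `F ⊗ N^a ≃ N'^a` -/
noncomputable def EE (e : F ⊗[R] N ≃ₗ[R] N') (a : ℕ) : F ⊗[R] (Fin a → N) ≃ₗ[R] (Fin a → N') :=
  (TensorProduct.piRight R R F (fun _ : Fin a => N)).trans (LinearEquiv.piCongrRight fun _ => e)

theorem EE_tmul (e : F ⊗[R] N ≃ₗ[R] N') (a : ℕ) (f : F) (t : Fin a → N) (s : Fin a) : EE e a (f ⊗ₜ t) s = e (f ⊗ₜ t s) := by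
  simp [EE]

theorem ev_kap (e : F ⊗[R] N ≃ₗ[R] N') (he : ∀ (p : P) (f : F) (n : N), p • e (f ⊗ₜ n) = e (f ⊗ₜ (p • n)))
    {a : ℕ} (q : Fin a → X) (z : F ⊗[R] (X →ₗ[P] N)) :
    ev R q (kap e he z) = EE e a ((ev R q : (X →ₗ[P] N) →ₗ[R] (Fin a → N)).lTensor F z) := by
  induction z with
  | zero => simp
  | add a b ha hb => rw [map_add, map_add, ha, hb, map_add, map_add]
  | tmul f g =>
    funext s
    rw [LinearMap.lTensor_tmul, EE_tmul, ev_apply, kap_tmul, ev_apply]

theorem lamv_EE (e : F ⊗[R] N ≃ₗ[R] N') (he : ∀ (p : P) (f : F) (n : N), p • e (f ⊗ₜ n) = e (f ⊗ₜ (p • n)))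
    {a : ℕ} (v : Fin a → P) (x : F ⊗[R] (Fin a → N)) :
    lamv (N := N') R v (EE e a x) = e ((lamv (N := N) R v).lTensor F x) := by
  induction x with
  | zero => simp
  | add a b ha hb => simp only [map_add, ha, hb]
  | tmul f t =>
    simp only [lamv_apply, EE_tmul, LinearMap.lTensor_tmul, TensorProduct.tmul_sum, map_sum, he]

variable {W : Submodule P X} {J : Type*} {U : J → Submodule P X} {V : J → Submodule P N} {V' : J → Submodule P N'}
  {I : Type*} {φ : I → X →ₗ[P] X} {ψ : I → N →ₗ[P] N} {ψ' : I → N' →ₗ[P] N'}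

/-- **flat base change** for `HC` : surjectivity -/
theorem hc_surj [IsNoetherianRing P] [Module.Flat R F] [Finite J] [Finite I] (e : F ⊗[R] N ≃ₗ[R] N')
    (he : ∀ (p : P) (f : F) (n : N), p • e (f ⊗ₜ n) = e (f ⊗ₜ (p • n)))
    (hV : ∀ j x, x ∈ V' j → e.symm x ∈ LinearMap.range (((V j).restrictScalars R).subtype.lTensor F))
    (hψ : ∀ i f n, ψ' i (e (f ⊗ₜ n)) = e (f ⊗ₜ ψ i n)) (hW : Module.Finite P (X ⧸ W))
    (hφ : ∀ i, W ≤ W.comap (φ i)) (g' : X →ₗ[P] N') (hg' : g' ∈ HC R W U V' φ ψ') :
    ∃ z : F ⊗[R] (HC R W U V φ ψ), kap e he ((HC R W U V φ ψ).subtype.lTensor F z) = g' := by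
  classical
  cases nonempty_fintype J
  cases nonempty_fintype I
  obtain ⟨a, π, hπ⟩ := Module.Finite.exists_fin' P (X ⧸ W)
  choose q hq using fun s : Fin a => W.mkQ_surjective (π (Pi.single s 1))
  -- generators of the relations
  obtain ⟨G0, hG0⟩ : (LinearMap.ker π).FG := IsNoetherian.noetherian _
  have hGj : ∀ j, ∃ G : Finset (Fin a → P), Submodule.span P (G : Set (Fin a → P)) = ((U j).map W.mkQ).comap π :=
    fun j => IsNoetherian.noetherian _
  choose G hG using hGj
  choose c hc using fun (p : I × Fin a) => hπ (W.mkQ (φ p.1 (q p.2)))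
  let JJ : Type _ := (G0 : Finset (Fin a → P)) ⊕ (Σ j, (G j : Finset (Fin a → P))) ⊕ (I × Fin a)
  let lam : JJ → (Fin a → N) →ₗ[R] N := fun jj => match jj with
    | Sum.inl v => lamv R (v : Fin a → P)
    | Sum.inr (Sum.inl ⟨_, v⟩) => lamv R (v : Fin a → P)
    | Sum.inr (Sum.inr p) => lamv R (c p) - ((ψ p.1).restrictScalars R).comp (LinearMap.proj p.2)
  let VV : JJ → Submodule R N := fun jj => match jj with
    | Sum.inl _ => ⊥
    | Sum.inr (Sum.inl ⟨j, _⟩) => (V j).restrictScalars R
    | Sum.inr (Sum.inr _) => ⊥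
  let A : Submodule R (Fin a → N) := ⨅ jj, (VV jj).comap (lam jj)
  -- E1
  have E1 : ∀ g ∈ HC R W U V φ ψ, ev R q g ∈ A := by
    rintro g ⟨h1, h2, h3⟩
    refine (Submodule.mem_iInf _).2 ?_
    rintro (⟨v, hv⟩ | ⟨j, v, hv⟩ | ⟨i, s⟩)
    · have hv' : π v = W.mkQ (0 : X) := by
        rw [map_zero]
        have : v ∈ LinearMap.ker π := hG0 ▸ Submodule.subset_span hv
        exact this
      show lamv R v (ev R q g) ∈ (⊥ : Submodule R N)
      rw [← apply_eq (R := R) hq h1 hv', map_zero]
      exact zero_mem _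
    · have hv' : v ∈ ((U j).map W.mkQ).comap π := (hG j) ▸ Submodule.subset_span hv
      obtain ⟨x, hx, hx'⟩ := hv'
      show lamv R v (ev R q g) ∈ V j
      rw [← apply_eq (R := R) hq h1 hx'.symm]
      exact h2 j hx
    · show lamv R (c (i, s)) (ev R q g) - ψ i (ev R q g s) ∈ (⊥ : Submodule R N)
      rw [← apply_eq (R := R) hq h1 (hc (i, s)), ev_apply]
      have := LinearMap.congr_fun (h3 i) (q s)
      simp only [LinearMap.comp_apply] at this
      rw [this, sub_self]
      exact zero_mem _
  -- E2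
  have E2 : ∀ t ∈ A, ∃ g ∈ HC R W U V φ ψ, ev R q g = t := by
    intro t ht
    have ht' : ∀ jj, lam jj t ∈ VV jj := fun jj => (Submodule.mem_iInf _).1 ht jj
    let g0 : (Fin a → P) →ₗ[P] N := Fintype.linearCombination P t
    have hg0 : ∀ v, g0 v = lamv R v t := fun v => by simp [g0, Fintype.linearCombination_apply, lamv_apply]
    have hker : LinearMap.ker π ≤ LinearMap.ker g0 := by
      rw [← hG0]
      refine Submodule.span_le.2 fun v hv => ?_
      have : lamv R v t ∈ (⊥ : Submodule R N) := ht' (Sum.inl ⟨v, hv⟩)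
      simp only [SetLike.mem_coe, LinearMap.mem_ker, hg0]
      simpa using this
    let g1 : X ⧸ W →ₗ[P] N := ((LinearMap.ker π).liftQ g0 hker).comp
      (π.quotKerEquivOfSurjective hπ).symm.toLinearMap
    have hg1 : ∀ v, g1 (π v) = g0 v := by
      intro v
      have : (π.quotKerEquivOfSurjective hπ).symm (π v) = (LinearMap.ker π).mkQ v := by
        rw [LinearEquiv.symm_apply_eq]
        rfl
      simp only [g1, LinearMap.comp_apply, LinearEquiv.coe_coe, this]
      simp
    let g : X →ₗ[P] N := g1.comp W.mkQ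
    have hgW : W ≤ LinearMap.ker g := by
      intro x hx
      have : W.mkQ x = 0 := by
        rw [← LinearMap.mem_ker, Submodule.ker_mkQ]
        exact hx
      simp only [LinearMap.mem_ker, g, LinearMap.comp_apply, this, map_zero]
    have hev : ev R q g = t := by
      funext s
      show g1 (W.mkQ (q s)) = t s
      rw [hq, hg1, hg0, lamv_apply]
      simp [Pi.single_apply]
    refine ⟨g, ⟨hgW, fun j x hx => ?_, fun i => ?_⟩, hev⟩
    · obtain ⟨v, hv⟩ := hπ (W.mkQ x)
      have hv' : v ∈ Submodule.span P (G j : Set (Fin a → P)) := by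
        rw [hG j]
        exact ⟨x, hx, hv.symm⟩
      show g x ∈ V j
      have h1 : g x = g0 v := by rw [← hg1, hv]; rfl
      rw [h1]
      have h2 : Submodule.span P (G j : Set (Fin a → P)) ≤ (V j).comap g0 := by
        refine Submodule.span_le.2 fun v hv => ?_
        have : lamv R v t ∈ V j := ht' (Sum.inr (Sum.inl ⟨j, v, hv⟩))
        simp only [Submodule.comap_coe, Set.mem_preimage, SetLike.mem_coe, hg0]
        exact this
      exact h2 hv'
    · refine eq_of_ev (R := R) hπ hq (fun x hx => ?_) (fun x hx => ?_) ?_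
      · exact hgW (hφ i hx)
      · have h1 : g x = 0 := hgW hx
        rw [LinearMap.mem_ker, LinearMap.comp_apply, h1, map_zero]
      · funext s
        have h1 := ht' (Sum.inr (Sum.inr (i, s)))
        have h2 : lamv R (c (i, s)) t - ψ i (t s) ∈ (⊥ : Submodule R N) := h1
        rw [Submodule.mem_bot, sub_eq_zero] at h2
        show g (φ i (q s)) = ψ i (g (q s))
        rw [apply_eq (R := R) hq hgW (hc (i, s)), hev, h2, ← hev]
        rfl
  have hinj : Function.Injective ((ev R q).comp (HC R W U V φ ψ).subtype) := by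
    intro g g' h
    exact Subtype.ext (eq_of_ev (R := R) hπ hq g.2.1 g'.2.1 h)
  let evA : HC R W U V φ ψ →ₗ[R] A := ((ev R q).comp (HC R W U V φ ψ).subtype).codRestrict A fun g => E1 g g.2
  have hevA : Function.Bijective evA := by
    constructor
    · intro g g' h
      exact hinj (congrArg Subtype.val h)
    · rintro ⟨t, ht⟩
      obtain ⟨g, hg, rfl⟩ := E2 t ht
      exact ⟨⟨g, hg⟩, rfl⟩
  let eA := LinearEquiv.ofBijective evA hevA
  -- the tuple of g'
  obtain ⟨h1, h2, h3⟩ := hg'
  set x := (EE e a).symm (ev R q g') with hx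
  have hx' : EE e a x = ev R q g' := by rw [hx, LinearEquiv.apply_symm_apply]
  have hcond : ∀ jj, (lam jj).lTensor F x ∈ LinearMap.range ((VV jj).subtype.lTensor F) := by
    rintro (⟨v, hv⟩ | ⟨j, v, hv⟩ | ⟨i, s⟩)
    · have hv' : π v = W.mkQ (0 : X) := by
        rw [map_zero]
        have : v ∈ LinearMap.ker π := hG0 ▸ Submodule.subset_span hv
        exact this
      have h5 : (lamv (N := N) R v).lTensor F x = 0 := by
        apply e.injective
        rw [← lamv_EE e he, hx', ← apply_eq (R := R) hq h1 hv', map_zero, map_zero]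
      show (lamv (N := N) R v).lTensor F x ∈ _
      rw [h5]
      exact zero_mem _
    · have hv' : v ∈ ((U j).map W.mkQ).comap π := (hG j) ▸ Submodule.subset_span hv
      obtain ⟨y, hy, hy'⟩ := hv'
      have h5 : e ((lamv (N := N) R v).lTensor F x) ∈ V' j := by
        rw [← lamv_EE e he, hx', ← apply_eq (R := R) hq h1 hy'.symm]
        exact h2 j hy
      have h6 := hV j _ h5
      rw [LinearEquiv.symm_apply_apply] at h6
      exact h6
    · have h5 : (lamv (N := N) R (c (i, s)) - ((ψ i).restrictScalars R).comp (LinearMap.proj s)).lTensor F x = 0 := by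
        apply e.injective
        rw [LinearMap.lTensor_sub, LinearMap.sub_apply, map_sub, ← lamv_EE e he, hx', ← apply_eq (R := R) hq h1 (hc (i, s))]
        have h6 : ∀ y : F ⊗[R] (Fin a → N), e ((((ψ i).restrictScalars R).comp (LinearMap.proj s)).lTensor F y) =
            ψ' i (EE e a y s) := by
          intro y
          induction y with
          | zero => simp
          | add a b ha hb => rw [map_add, map_add, ha, hb, map_add, Pi.add_apply, map_add]
          | tmul f t => rw [EE_tmul, hψ]; rfl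
        rw [h6, hx', ev_apply, map_zero, sub_eq_zero]
        exact LinearMap.congr_fun (h3 i) (q s)
      show (lamv (N := N) R (c (i, s)) - ((ψ i).restrictScalars R).comp (LinearMap.proj s)).lTensor F x ∈ _
      rw [h5]
      exact zero_mem _
  obtain ⟨y, hy⟩ := cond_flat lam VV x hcond
  refine ⟨eA.symm.toLinearMap.lTensor F y, ?_⟩
  have hk : ∀ z : F ⊗[R] (X →ₗ[P] N), z ∈ LinearMap.range ((HC R W U V φ ψ).subtype.lTensor F) →
      W ≤ LinearMap.ker (kap e he z) := by
    rintro _ ⟨z, rfl⟩ w hw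
    induction z with
    | zero => simp
    | add a b ha hb =>
      simp only [LinearMap.mem_ker] at ha hb ⊢
      rw [map_add, map_add, LinearMap.add_apply, ha, hb, add_zero]
    | tmul f g =>
      have h6 : (g : X →ₗ[P] N) w = 0 := g.2.1 hw
      rw [LinearMap.mem_ker, LinearMap.lTensor_tmul, kap_tmul]
      show e (f ⊗ₜ (g : X →ₗ[P] N) w) = 0
      rw [h6, TensorProduct.tmul_zero, map_zero]
  refine eq_of_ev (R := R) hπ hq (hk _ ⟨_, rfl⟩) h1 ?_
  rw [ev_kap, ← LinearMap.comp_apply (LinearMap.lTensor F (ev R q)), ← LinearMap.lTensor_comp,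
    ← LinearMap.comp_apply, ← LinearMap.lTensor_comp]
  have h7 : (((ev R q).comp (HC R W U V φ ψ).subtype).comp eA.symm.toLinearMap) = A.subtype := by
    ext t : 1
    have h8 : (eA (eA.symm t) : Fin a → N) = t := by rw [LinearEquiv.apply_symm_apply]
    exact h8
  rw [h7, hy, hx']

/-- **flat base change** for `HC` : injectivity -/
theorem hc_inj [Module.Flat R F] (e : F ⊗[R] N ≃ₗ[R] N')
    (he : ∀ (p : P) (f : F) (n : N), p • e (f ⊗ₜ n) = e (f ⊗ₜ (p • n))) (hW : Module.Finite P (X ⧸ W)) :
    Function.Injective ((kap e he).comp ((HC R W U V φ ψ).subtype.lTensor F)) := by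
  classical
  obtain ⟨a, π, hπ⟩ := Module.Finite.exists_fin' P (X ⧸ W)
  choose q hq using fun s : Fin a => W.mkQ_surjective (π (Pi.single s 1))
  have hinj : Function.Injective ((ev R q).comp (HC R W U V φ ψ).subtype) := by
    intro g g' h
    exact Subtype.ext (eq_of_ev (R := R) hπ hq g.2.1 g'.2.1 h)
  have h1 := Module.Flat.lTensor_preserves_injective_linearMap (M := F) _ hinj
  intro z z' h
  apply h1
  apply (EE e a).injective
  rw [LinearMap.lTensor_comp, LinearMap.comp_apply, LinearMap.comp_apply, ← ev_kap e he, ← ev_kap e he]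
  exact congrArg (ev R q) h

end Main

end Groth.Agent.ResProp.EF.K590
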