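import Groth.Agent.ResProp.EF.K590.DiffBC
import Groth.Agent.ResProp.EF.K590.HomBC

/-!
# The operators `DD j` commute with flat base change

`DDo FM FN φ ψ j` : the `R`-linear `L : M → N`, all of whose iterated commutators with `c` elements of `P` map `FM m` to
`FN (m + j + c)`, and with `L φ i = ψ i L`.  For `F` flat over `R` and `N' = F ⊗ N`: `F ⊗ DDo(M, N) → DDo(M, N')` is
bijective (`op_mem`, `op_inj`, `op_surj`).
-/

set_option autoImplicit false
set_option linter.dupNamespace false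
set_option linter.unusedSectionVars false
set_option linter.unusedVariables false

namespace Groth.Agent.ResProp.EF.K590

open TensorProduct

section Defs

variable {R : Type*} {P : Type*} {M : Type*} {N : Type*} [CommRing R] [CommRing P] [Algebra R P]
variable [AddCommGroup M] [Module R M] [Module P M] [IsScalarTower R P M]
variable [AddCommGroup N] [Module R N] [Module P N] [IsScalarTower R P N]

theorem adL_smul (xs : List P) (r : R) (L : M →ₗ[R] N) : adL xs (r • L) = r • adL xs L := by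
  have h : r • L = algebraMap R P r • L := by ext z; simp
  rw [h, map_smul]
  ext z
  simp

/-- the operators of weight `j` -/
def DDo (FM : ℕ → Submodule P M) (FN : ℕ → Submodule P N) {I : Type*} (φ : I → M →ₗ[P] M) (ψ : I → N →ₗ[P] N) (j : ℕ) :
    Submodule R (M →ₗ[R] N) where
  carrier := {L | (∀ (xs : List P) (m : ℕ), ∀ z ∈ FM m, adL xs L z ∈ FN (m + j + xs.length)) ∧
    ∀ i z, L (φ i z) = ψ i (L z)}
  zero_mem' := ⟨fun xs m z _ => by simp, fun i z => by simp⟩
  add_mem' := by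
    rintro L L' ⟨h1, h2⟩ ⟨h1', h2'⟩
    refine ⟨fun xs m z hz => ?_, fun i z => ?_⟩
    · rw [map_add]
      exact add_mem (h1 xs m z hz) (h1' xs m z hz)
    · simp [h2, h2']
  smul_mem' := by
    rintro r L ⟨h1, h2⟩
    refine ⟨fun xs m z hz => ?_, fun i z => ?_⟩
    · rw [adL_smul, LinearMap.smul_apply, ← algebraMap_smul P r]
      exact Submodule.smul_mem _ _ (h1 xs m z hz)
    · rw [LinearMap.smul_apply, LinearMap.smul_apply, h2, ← algebraMap_smul P r, ← algebraMap_smul P r, map_smul]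

theorem mem_DDo {FM : ℕ → Submodule P M} {FN : ℕ → Submodule P N} {I : Type*} {φ : I → M →ₗ[P] M} {ψ : I → N →ₗ[P] N}
    {j : ℕ} {L : M →ₗ[R] N} : L ∈ DDo FM FN φ ψ j ↔
      (∀ (xs : List P) (m : ℕ), ∀ z ∈ FM m, adL xs L z ∈ FN (m + j + xs.length)) ∧ ∀ i z, L (φ i z) = ψ i (L z) := Iff.rfl

/-- `Hom_R(M, N) = Hom_P(P ⊗ M, N)` -/
noncomputable def hatE : (M →ₗ[R] N) ≃ₗ[R] (P ⊗[R] M →ₗ[P] N) where
  toFun L := hat L
  map_add' L L' := by
    apply TensorProduct.AlgebraTensorModule.ext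
    intro p z
    simp [hat_tmul]
  map_smul' r L := by
    apply TensorProduct.AlgebraTensorModule.ext
    intro p z
    simp only [hat_tmul, LinearMap.smul_apply, RingHom.id_apply]
    rw [smul_comm]
  invFun g :=
    { toFun := fun z => g (1 ⊗ₜ z)
      map_add' := fun z z' => by rw [TensorProduct.tmul_add, map_add]
      map_smul' := fun r z => by
        rw [RingHom.id_apply, TensorProduct.tmul_smul, ← algebraMap_smul P r, map_smul, algebraMap_smul] }
  left_inv L := by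
    ext z
    show hat L (1 ⊗ₜ z) = L z
    rw [hat_tmul, one_smul]
  right_inv g := by
    apply TensorProduct.AlgebraTensorModule.ext
    intro p z
    rw [hat_tmul]
    show p • g (1 ⊗ₜ z) = g (p ⊗ₜ z)
    rw [← map_smul, TensorProduct.smul_tmul', smul_eq_mul, mul_one]

theorem hatE_apply (L : M →ₗ[R] N) : hatE (P := P) L = hat L := rfl

variable {FM : ℕ → Submodule P M} {FN : ℕ → Submodule P N} {I : Type*} {φ : I → M →ₗ[P] M} {ψ : I → N →ₗ[P] N}

/-- the finitely many conditions -/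
theorem mem_DDo_iff {k : ℕ} (j : ℕ) (hM0 : FM 0 = ⊤) (hM : Antitone FM) (hN : Antitone FN) (hNk : FN (k + 1) = ⊥)
    (L : M →ₗ[R] N) : L ∈ DDo FM FN φ ψ j ↔
      hatE L ∈ HC R (Wc R (⊤ : Submodule P M) (k + 1)) (fun p : Fin (k + 2) × Fin (k + 2) => Wc R (FM p.2) p.1)
        (fun p => FN (p.2 + j + p.1)) (fun i => LinearMap.baseChange P ((φ i).restrictScalars R)) ψ := by
  have hbot : ∀ n, k + 1 ≤ n → FN n = ⊥ := fun n hn => eq_bot_iff.2 (hNk ▸ hN hn)
  constructor
  · rintro ⟨h1, h2⟩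
    refine ⟨?_, fun p => ?_, fun i => ?_⟩
    · have := (adL_mem_iff (⊤ : Submodule P M) (⊥ : Submodule P N) (k + 1) L).1 (fun xs hxs z _ => by
        have h3 := h1 xs 0 z (hM0 ▸ trivial)
        rwa [hbot (0 + j + xs.length) (by omega)] at h3)
      exact this
    · refine (adL_mem_iff (FM p.2) (FN (p.2 + j + p.1)) p.1 L).1 (fun xs hxs z hz => ?_)
      rw [← hxs]
      exact h1 xs p.2 z hz
    · apply TensorProduct.AlgebraTensorModule.ext
      intro p z
      simp only [LinearMap.comp_apply, LinearMap.baseChange_tmul, hatE_apply, hat_tmul, map_smul]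
      congr 1
      exact h2 i z
  · rintro ⟨h1, h2, h3⟩
    refine ⟨fun xs m z hz => ?_, fun i z => ?_⟩
    · by_cases hc : k + 1 ≤ xs.length
      · have h4 := (adL_mem_iff (⊤ : Submodule P M) (⊥ : Submodule P N) xs.length L).2
          ((Wc_top_anti' hc).trans h1) xs rfl z trivial
        rw [Submodule.mem_bot] at h4
        rw [h4]
        exact zero_mem _
      · by_cases hm : m ≤ k + 1
        · have h4 := h2 (⟨xs.length, by omega⟩, ⟨m, by omega⟩)
          exact (adL_mem_iff (FM m) (FN (m + j + xs.length)) xs.length L).2 h4 xs rfl z hz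
        · have hz' : z ∈ FM (k + 1) := hM (by omega) hz
          have h4 := h2 (⟨xs.length, by omega⟩, ⟨k + 1, by omega⟩)
          have h5 := (adL_mem_iff (FM (k + 1)) (FN (k + 1 + j + xs.length)) xs.length L).2 h4 xs rfl z hz'
          rw [hbot _ (by omega), Submodule.mem_bot] at h5
          rw [h5]
          exact zero_mem _
    · have h4 := LinearMap.congr_fun (h3 i) ((1 : P) ⊗ₜ[R] z)
      simpa [hatE_apply, hat_tmul] using h4

/-- `DDo` and `HC` -/
noncomputable def eDH {k : ℕ} (j : ℕ) (hM0 : FM 0 = ⊤) (hM : Antitone FM) (hN : Antitone FN) (hNk : FN (k + 1) = ⊥) :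
    DDo (R := R) FM FN φ ψ j ≃ₗ[R]
      HC R (Wc R (⊤ : Submodule P M) (k + 1)) (fun p : Fin (k + 2) × Fin (k + 2) => Wc R (FM p.2) p.1)
        (fun p => FN (p.2 + j + p.1)) (fun i => LinearMap.baseChange P ((φ i).restrictScalars R)) ψ :=
  LinearEquiv.ofSubmodules hatE _ _ (by
    ext g
    constructor
    · rintro ⟨L, hL, rfl⟩
      exact (mem_DDo_iff j hM0 hM hN hNk L).1 hL
    · intro hg
      refine ⟨hatE.symm g, (mem_DDo_iff j hM0 hM hN hNk _).2 ?_, hatE.apply_symm_apply g⟩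
      rwa [hatE.apply_symm_apply])

theorem eDH_coe {k : ℕ} (j : ℕ) (hM0 : FM 0 = ⊤) (hM : Antitone FM) (hN : Antitone FN) (hNk : FN (k + 1) = ⊥)
    (L : DDo (R := R) FM FN φ ψ j) : ((eDH j hM0 hM hN hNk L : HC _ _ _ _ _ _) : P ⊗[R] M →ₗ[P] N) = hatE L.1 := rfl

end Defs

section Main

variable {R : Type*} {P : Type*} {M : Type*} {N : Type*} {F : Type*} {N' : Type*} [CommRing R] [CommRing P] [Algebra R P]
variable [AddCommGroup M] [Module R M] [Module P M] [IsScalarTower R P M]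
variable [AddCommGroup N] [Module R N] [Module P N] [IsScalarTower R P N]
variable [AddCommGroup N'] [Module R N'] [Module P N'] [IsScalarTower R P N']
variable [AddCommGroup F] [Module R F]

/-- `F ⊗ Hom_R(M, N) → Hom_R(M, N')`, `N' = F ⊗ N` -/
noncomputable def kapOp (M : Type*) [AddCommGroup M] [Module R M] (e : F ⊗[R] N ≃ₗ[R] N') :
    F ⊗[R] (M →ₗ[R] N) →ₗ[R] (M →ₗ[R] N') :=
  TensorProduct.lift
    { toFun := fun f =>
        { toFun := fun g => e.toLinearMap ∘ₗ (TensorProduct.mk R F N f) ∘ₗ g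
          map_add' := fun g g' => by
            ext x
            simp [TensorProduct.tmul_add]
          map_smul' := fun r g => by
            ext x
            simp }
      map_add' := fun f f' => by
        ext g x
        simp
      map_smul' := fun r f => by
        ext g x
        show e ((r • f) ⊗ₜ[R] g x) = r • e (f ⊗ₜ[R] g x)
        rw [← TensorProduct.smul_tmul', map_smul] }

theorem kapOp_tmul (e : F ⊗[R] N ≃ₗ[R] N') (f : F) (L : M →ₗ[R] N) (z : M) : kapOp M e (f ⊗ₜ L) z = e (f ⊗ₜ L z) := rfl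

theorem hatE_kapOp (e : F ⊗[R] N ≃ₗ[R] N') (he : ∀ (p : P) (f : F) (n : N), p • e (f ⊗ₜ n) = e (f ⊗ₜ (p • n)))
    (t : F ⊗[R] (M →ₗ[R] N)) : hatE (P := P) (kapOp M e t) = kap e he ((hatE (P := P)).toLinearMap.lTensor F t) := by
  induction t with
  | zero => simp
  | add a b ha hb => rw [map_add, map_add, ha, hb, map_add, map_add]
  | tmul f L =>
    apply TensorProduct.AlgebraTensorModule.ext
    intro p z
    rw [LinearMap.lTensor_tmul, kap_tmul, hatE_apply, hat_tmul, kapOp_tmul, he]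
    rfl

variable {FM : ℕ → Submodule P M} {FN : ℕ → Submodule P N} {FN' : ℕ → Submodule P N'}
  {I : Type*} {φ : I → M →ₗ[P] M} {ψ : I → N →ₗ[P] N} {ψ' : I → N' →ₗ[P] N'}

/-- the iterated commutators of `kapOp` -/
theorem adL_kapOp (e : F ⊗[R] N ≃ₗ[R] N') (he : ∀ (p : P) (f : F) (n : N), p • e (f ⊗ₜ n) = e (f ⊗ₜ (p • n)))
    (xs : List P) (f : F) (L : M →ₗ[R] N) (z : M) : adL xs (kapOp M e (f ⊗ₜ L)) z = e (f ⊗ₜ adL xs L z) := by
  induction xs generalizing L with
  | nil => rw [adL_nil, adL_nil, kapOp_tmul]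
  | cons x xs ih =>
    rw [adL_cons, adL_cons, ← ih]
    congr 2
    ext z
    rw [ad_apply, kapOp_tmul, kapOp_tmul, kapOp_tmul, ad_apply, he, TensorProduct.tmul_sub, map_sub]

theorem op_mem (e : F ⊗[R] N ≃ₗ[R] N') (he : ∀ (p : P) (f : F) (n : N), p • e (f ⊗ₜ n) = e (f ⊗ₜ (p • n)))
    (hFN : ∀ n x, x ∈ FN' n ↔ e.symm x ∈ LinearMap.range (((FN n).restrictScalars R).subtype.lTensor F))
    (hψ : ∀ i f n, ψ' i (e (f ⊗ₜ n)) = e (f ⊗ₜ ψ i n)) (j : ℕ) (z : F ⊗[R] (DDo (R := R) FM FN φ ψ j)) :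
    kapOp M e ((DDo (R := R) FM FN φ ψ j).subtype.lTensor F z) ∈ DDo (R := R) FM FN' φ ψ' j := by
  induction z with
  | zero => rw [map_zero, map_zero]; exact zero_mem _
  | add a b ha hb => rw [map_add, map_add]; exact add_mem ha hb
  | tmul f L =>
    obtain ⟨L, h1, h2⟩ := L
    rw [LinearMap.lTensor_tmul]
    refine ⟨fun xs m z hz => ?_, fun i z => ?_⟩
    · show adL xs (kapOp M e (f ⊗ₜ L)) z ∈ _
      rw [adL_kapOp e he, hFN, LinearEquiv.symm_apply_apply]
      exact ⟨f ⊗ₜ ⟨adL xs L z, h1 xs m z hz⟩, rfl⟩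
    · show e (f ⊗ₜ L (φ i z)) = ψ' i (e (f ⊗ₜ L z))
      rw [hψ, h2]

theorem FN'_anti (e : F ⊗[R] N ≃ₗ[R] N') (hN : Antitone FN)
    (hFN : ∀ n x, x ∈ FN' n ↔ e.symm x ∈ LinearMap.range (((FN n).restrictScalars R).subtype.lTensor F)) :
    Antitone FN' := by
  intro n n' h x hx
  rw [hFN] at hx ⊢
  obtain ⟨y, hy⟩ := hx
  refine ⟨(Submodule.inclusion (p := (FN n').restrictScalars R) (p' := (FN n).restrictScalars R) (hN h)).lTensor F y, ?_⟩
  rw [← LinearMap.comp_apply, ← LinearMap.lTensor_comp, ← hy]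
  rfl

theorem FN'_bot (e : F ⊗[R] N ≃ₗ[R] N') {n : ℕ} (hN : FN n = ⊥)
    (hFN : ∀ n x, x ∈ FN' n ↔ e.symm x ∈ LinearMap.range (((FN n).restrictScalars R).subtype.lTensor F)) :
    FN' n = ⊥ := by
  refine eq_bot_iff.2 fun x hx => ?_
  rw [hFN, hN] at hx
  obtain ⟨y, hy⟩ := hx
  have h0 : (((⊥ : Submodule P N).restrictScalars R).subtype) = 0 := by
    ext z
    exact (Submodule.mem_bot P).1 z.2
  rw [h0, LinearMap.lTensor_zero, LinearMap.zero_apply] at hy
  rw [Submodule.mem_bot]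
  exact (LinearEquiv.map_eq_zero_iff e.symm).1 hy.symm

/-- **OPS-BC**, surjectivity -/
theorem op_surj [IsNoetherianRing P] [Algebra.FiniteType R P] [Module.Finite P M] [Module.Flat R F] [Finite I]
    (e : F ⊗[R] N ≃ₗ[R] N') (he : ∀ (p : P) (f : F) (n : N), p • e (f ⊗ₜ n) = e (f ⊗ₜ (p • n)))
    (hFN : ∀ n x, x ∈ FN' n ↔ e.symm x ∈ LinearMap.range (((FN n).restrictScalars R).subtype.lTensor F))
    (hψ : ∀ i f n, ψ' i (e (f ⊗ₜ n)) = e (f ⊗ₜ ψ i n)) {k : ℕ} (hM0 : FM 0 = ⊤) (hM : Antitone FM) (hN : Antitone FN)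
    (hNk : FN (k + 1) = ⊥) (j : ℕ) (L' : M →ₗ[R] N') (hL' : L' ∈ DDo (R := R) FM FN' φ ψ' j) :
    ∃ z : F ⊗[R] (DDo (R := R) FM FN φ ψ j), kapOp M e ((DDo (R := R) FM FN φ ψ j).subtype.lTensor F z) = L' := by
  have hN' : Antitone FN' := FN'_anti e hN hFN
  have hNk' : FN' (k + 1) = ⊥ := FN'_bot e hNk hFN
  have hφW : ∀ (c : ℕ) (i : I), Wc R (⊤ : Submodule P M) c ≤
      (Wc R (⊤ : Submodule P M) c).comap (LinearMap.baseChange P ((φ i).restrictScalars R)) := by
    intro c
    induction c with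
    | zero => intro i; rw [Wc_zero_top]; exact fun _ _ => trivial
    | succ c ih =>
      intro i
      rw [Wc_succ, iSup_le_iff]
      rintro x _ ⟨t, ht, rfl⟩
      have hcomm : ∀ t : P ⊗[R] M, LinearMap.baseChange P ((φ i).restrictScalars R) (del x t) =
          del x (LinearMap.baseChange P ((φ i).restrictScalars R) t) := by
        intro t
        induction t with
        | zero => simp
        | add a b ha hb => simp only [map_add, ha, hb]
        | tmul p z => simp [del_tmul]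
      rw [Submodule.mem_comap, hcomm]
      exact (le_iSup (fun x : P => (Wc R (⊤ : Submodule P M) c).map (del x)) x) ⟨_, ih i ht, rfl⟩
  obtain ⟨z, hz⟩ := hc_surj (R := R) (P := P) (X := P ⊗[R] M) (N := N) (F := F) (N' := N')
    (W := Wc R (⊤ : Submodule P M) (k + 1)) (J := Fin (k + 2) × Fin (k + 2)) (U := fun p => Wc R (FM p.2) p.1)
    (V := fun p => FN (p.2 + j + p.1)) (V' := fun p => FN' (p.2 + j + p.1))
    (φ := fun i => LinearMap.baseChange P ((φ i).restrictScalars R)) (ψ := ψ) (ψ' := ψ') e he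
    (fun p x hx => (hFN _ _).1 hx) hψ (finite_quot (k + 1)) (fun i => hφW (k + 1) i) (hatE L')
    ((mem_DDo_iff j hM0 hM hN' hNk' L').1 hL')
  refine ⟨(eDH (R := R) (φ := φ) (ψ := ψ) j hM0 hM hN hNk).symm.toLinearMap.lTensor F z, ?_⟩
  apply (hatE (P := P)).injective
  rw [hatE_kapOp e he, ← hz]
  congr 1
  clear hz
  induction z with
  | zero => simp
  | add a b ha hb => rw [map_add, map_add, map_add, map_add, ha, hb]
  | tmul f g =>
    have h9 : hatE (P := P) ((eDH (R := R) (φ := φ) (ψ := ψ) j hM0 hM hN hNk).symm g : M →ₗ[R] N) = g.1 :=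
      congrArg Subtype.val ((eDH (R := R) (φ := φ) (ψ := ψ) j hM0 hM hN hNk).apply_symm_apply g)
    show f ⊗ₜ[R] hatE (P := P) ((eDH (R := R) (φ := φ) (ψ := ψ) j hM0 hM hN hNk).symm g : M →ₗ[R] N) = f ⊗ₜ[R] g.1
    rw [h9]

/-- **OPS-BC**, injectivity -/
theorem op_inj [Algebra.FiniteType R P] [Module.Finite P M] [Module.Flat R F]
    (e : F ⊗[R] N ≃ₗ[R] N') (he : ∀ (p : P) (f : F) (n : N), p • e (f ⊗ₜ n) = e (f ⊗ₜ (p • n)))
    {k : ℕ} (hM0 : FM 0 = ⊤) (hM : Antitone FM) (hN : Antitone FN) (hNk : FN (k + 1) = ⊥) (j : ℕ) :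
    Function.Injective ((kapOp M e).comp ((DDo (R := R) FM FN φ ψ j).subtype.lTensor F)) := by
  have h1 := hc_inj (R := R) (P := P) (X := P ⊗[R] M) (N := N) (F := F) (N' := N')
    (W := Wc R (⊤ : Submodule P M) (k + 1)) (J := Fin (k + 2) × Fin (k + 2)) (U := fun p => Wc R (FM p.2) p.1)
    (V := fun p => FN (p.2 + j + p.1))
    (φ := fun i => LinearMap.baseChange P ((φ i).restrictScalars R)) (ψ := ψ) e he (finite_quot (k + 1))
  intro z z' h
  apply (LinearEquiv.lTensor F (eDH (R := R) (φ := φ) (ψ := ψ) j hM0 hM hN hNk)).injective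
  apply h1
  have h2 : ∀ z : F ⊗[R] (DDo (R := R) FM FN φ ψ j),
      ((kap e he).comp ((HC R (Wc R (⊤ : Submodule P M) (k + 1)) (fun p : Fin (k + 2) × Fin (k + 2) => Wc R (FM p.2) p.1)
        (fun p => FN (p.2 + j + p.1)) (fun i => LinearMap.baseChange P ((φ i).restrictScalars R)) ψ).subtype.lTensor F))
        (LinearEquiv.lTensor F (eDH (R := R) (φ := φ) (ψ := ψ) j hM0 hM hN hNk) z) =
      hatE (P := P) (kapOp M e ((DDo (R := R) FM FN φ ψ j).subtype.lTensor F z)) := by
    intro z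
    rw [hatE_kapOp e he, LinearMap.comp_apply]
    congr 1
    rw [← LinearMap.comp_apply, ← LinearMap.lTensor_comp]
    induction z with
    | zero => simp
    | add a b ha hb => rw [map_add, map_add, map_add, ha, hb]
    | tmul f L => rfl
  rw [h2, h2]
  exact congrArg (hatE (P := P)) h

end Main

end Groth.Agent.ResProp.EF.K590
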